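import Groth.Agent.L15.MM.Surj
import Mathlib.Algebra.CharZero.Infinite
import Mathlib.Algebra.Polynomial.RingDivision
import Mathlib.Algebra.Lie.UniversalEnveloping

/-!
The lift of the primitive elements to the universal enveloping algebra is surjective.
-/

set_option autoImplicit false

noncomputable section

universe u v

open TensorProduct Groth.L08 Polynomial

namespace Groth.L15.MM

variable {k : Type u} [Field k] {H : Type v} [Ring H] [Bialgebra k H]

/-- `∏ (X - 2 ^ m)`. -/
def pol (k : Type u) [Field k] (s : Multiset ℕ) : k[X] :=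
  (s.map fun m => X - C ((2 : k) ^ m)).prod

theorem pol_add (s t : Multiset ℕ) : pol k (s + t) = pol k s * pol k t := by
  simp [pol, Multiset.map_add, Multiset.prod_add]

theorem eval_pol_ne_zero [CharZero k] {s : Multiset ℕ} (hs : ∀ m ∈ s, 2 ≤ m) :
    (pol k s).eval 2 ≠ 0 := by
  rw [pol, eval_multiset_prod, Multiset.map_map]
  refine Multiset.prod_ne_zero fun h => ?_
  obtain ⟨m, hm, e⟩ := Multiset.mem_map.1 h
  simp only [Function.comp_apply, eval_sub, eval_X, eval_C, sub_eq_zero] at e
  have : (2 : ℕ) ^ 1 = 2 ^ m := by exact_mod_cast (show ((2 : k)) ^ 1 = 2 ^ m by rw [pow_one]; exact e)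
  have := Nat.pow_right_injective le_rfl this
  have := hs m hm
  omega

/-- Two commuting operators with split annihilating polynomials on `v`: so has their product. -/
theorem exists_pol_mul {M : Type v} [AddCommGroup M] [Module k M] (A B : Module.End k M)
    (hAB : A * B = B * A) (s t : Multiset ℕ) (hs : ∀ m ∈ s, 1 ≤ m) (ht : ∀ m ∈ t, 1 ≤ m) (v : M)
    (hA : aeval A (pol k s) v = 0) (hB : aeval B (pol k t) v = 0) :
    ∃ r : Multiset ℕ, (∀ m ∈ r, 2 ≤ m) ∧ aeval (A * B) (pol k r) v = 0 := by
  classical
  let S : Subalgebra k (Module.End k M) := Algebra.adjoin k {A, B}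
  letI : CommRing S := Algebra.adjoinCommRingOfComm k (by
    rintro a (rfl | rfl) b (rfl | rfl) <;> first | rfl | exact hAB | exact hAB.symm)
  let a : S := ⟨A, Algebra.subset_adjoin (by simp)⟩
  let b : S := ⟨B, Algebra.subset_adjoin (by simp)⟩
  let I : Ideal S :=
    { carrier := {z | (z : Module.End k M) v = 0}
      zero_mem' := rfl
      add_mem' := fun {z w} (hz : _ = 0) (hw : _ = 0) => by
        simp only [Set.mem_setOf_eq, AddMemClass.coe_add, LinearMap.add_apply, hz, hw, add_zero]
      smul_mem' := fun c {z} (hz : _ = 0) => by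
        simp only [Set.mem_setOf_eq, smul_eq_mul, MulMemClass.coe_mul, Module.End.mul_apply, hz,
          map_zero] }
  have hval : ∀ (p : k[X]) (z : S),
      ((aeval z p : S) : Module.End k M) = aeval (z : Module.End k M) p := fun p z =>
    (aeval_algHom_apply S.val z p).symm
  have hfac : ∀ (u : Multiset ℕ) (z : S) (P : Ideal S), P.IsPrime → aeval z (pol k u) ∈ P →
      ∃ m ∈ u, z - algebraMap k S ((2 : k) ^ m) ∈ P := by
    intro u z P hP h
    rw [pol, map_multiset_prod, Multiset.map_map] at h
    obtain ⟨w, hw, hwP⟩ := (hP.multiset_prod_mem_iff_exists_mem _).1 h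
    obtain ⟨m, hm, rfl⟩ := Multiset.mem_map.1 hw
    exact ⟨m, hm, by simpa using hwP⟩
  let r : Multiset ℕ := (s ×ˢ t).map fun q => q.1 + q.2
  have hrad : aeval (a * b) (pol k r) ∈ I.radical := by
    rw [Ideal.radical_eq_sInf, Submodule.mem_sInf]
    rintro P ⟨hIP, hP⟩
    obtain ⟨m, hm, ha⟩ := hfac s a P hP (hIP (show _ = 0 by rw [hval]; exact hA))
    obtain ⟨m', hm', hb⟩ := hfac t b P hP (hIP (show _ = 0 by rw [hval]; exact hB))
    rw [pol, map_multiset_prod, Multiset.map_map]
    refine (hP.multiset_prod_mem_iff_exists_mem _).2 ⟨_, Multiset.mem_map.2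
      ⟨m + m', Multiset.mem_map.2 ⟨(m, m'), Multiset.mem_product.2 ⟨hm, hm'⟩, rfl⟩, rfl⟩, ?_⟩
    have e : (aeval (a * b) (X - C ((2 : k) ^ (m + m')))) =
        (a - algebraMap k S ((2 : k) ^ m)) * b +
          algebraMap k S ((2 : k) ^ m) * (b - algebraMap k S ((2 : k) ^ m')) := by
      simp only [map_sub, aeval_X, aeval_C, pow_add, map_mul]
      ring
    simp only [Function.comp_apply]
    rw [e]
    exact add_mem (Ideal.mul_mem_right _ _ ha) (Ideal.mul_mem_left _ _ hb)
  obtain ⟨N, hN⟩ := hrad
  refine ⟨N • r, fun m hm => ?_, ?_⟩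
  · obtain ⟨⟨x, y⟩, hxy, rfl⟩ := Multiset.mem_map.1 (Multiset.mem_of_mem_nsmul hm)
    obtain ⟨hx, hy⟩ := Multiset.mem_product.1 hxy
    have := hs x hx; have := ht y hy
    change 2 ≤ x + y
    omega
  · have e : pol k (N • r) = pol k r ^ N := by simp [pol, Multiset.map_nsmul, Multiset.prod_nsmul]
    have hN' : ((aeval (a * b) (pol k r) ^ N : S) : Module.End k M) v = 0 := hN
    rw [← map_pow, ← e, hval] at hN'
    exact hN'

variable [CharZero k] [Coalgebra.IsCocomm k H]

theorem aeval_mem_ker {M : Type v} [AddCommGroup M] [Module k M] (A : Module.End k M) (p q : k[X])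
    {v : M} (h : aeval A p v = 0) : aeval A (q * p) v = 0 := by
  rw [map_mul, Module.End.mul_apply, h, map_zero]

omit [CharZero k] in
theorem dlt_aeval (p : k[X]) (x : H) :
    dlt k H (aeval (T k H) p x) = aeval (TensorProduct.map (T k H) (T k H)) p (dlt k H x) := by
  induction p using Polynomial.induction_on' generalizing x with
  | add p q hp hq => simp only [map_add, LinearMap.add_apply, hp, hq]
  | monomial n c =>
    simp only [aeval_monomial, Module.End.mul_apply, Module.algebraMap_end_apply, map_smul]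
    congr 1
    induction n generalizing x with
    | zero => rfl
    | succ n ih => simp only [pow_succ, Module.End.mul_apply, ih, dlt_T]

omit [CharZero k] in
theorem counit_aeval (p : k[X]) (x : H) (hx : Coalgebra.counit (R := k) x = 0) :
    Coalgebra.counit (R := k) (aeval (T k H) p x) = 0 := by
  induction p using Polynomial.induction_on' with
  | add p q hp hq => simp only [map_add, LinearMap.add_apply, hp, hq, add_zero]
  | monomial n c =>
    simp only [aeval_monomial, Module.End.mul_apply, Module.algebraMap_end_apply, map_smul]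
    suffices Coalgebra.counit (R := k) ((T k H ^ n) x) = 0 by rw [this, smul_zero]
    induction n with
    | zero => exact hx
    | succ n ih => rw [pow_succ', Module.End.mul_apply, counit_T, ih]

variable (k H) in
/-- The subalgebra generated by the primitive elements. -/
def primAlg : Subalgebra k H := Algebra.adjoin k (SGA3y.primLie k H : Set H)

omit [CharZero k] [Coalgebra.IsCocomm k H] in
theorem T_mem {x : H} (hx : x ∈ primAlg k H) : T k H x ∈ primAlg k H := by
  let U := primAlg k H
  have h : U ≤ (Algebra.TensorProduct.map U.val U.val).range.comap (Bialgebra.comulAlgHom k H) := by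
    refine Algebra.adjoin_le fun p hp => ?_
    let p' : U := ⟨p, Algebra.subset_adjoin hp⟩
    exact ⟨p' ⊗ₜ 1 + 1 ⊗ₜ p', by simp only [map_add]; exact (hp : _ = _).symm⟩
  obtain ⟨z, hz⟩ := h hx
  have hm : ∀ z : U ⊗[k] U,
      LinearMap.mul' k H (Algebra.TensorProduct.map U.val U.val z) ∈ U := by
    intro z
    induction z with
    | zero => simp
    | add a b ha hb => simpa only [map_add] using add_mem ha hb
    | tmul a b => exact mul_mem a.2 b.2
  have := hm z
  rw [show Algebra.TensorProduct.map U.val U.val z = Coalgebra.comul (R := k) x from hz] at this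
  exact this

omit [CharZero k] [Coalgebra.IsCocomm k H] in
theorem aeval_sub_mem {p : k[X]} {x : H} (hx : T k H x - (2 : k) • x ∈ primAlg k H) :
    aeval (T k H) p x - p.eval 2 • x ∈ primAlg k H := by
  obtain ⟨q, hq⟩ := (X_sub_C_dvd_sub_C_eval : X - C (2 : k) ∣ p - C (p.eval 2))
  have h : aeval (T k H) p x - p.eval 2 • x = aeval (T k H) q (T k H x - (2 : k) • x) := by
    have := congrArg (fun r => aeval (T k H) r x) (hq.trans (mul_comm _ _))
    simpa [Module.algebraMap_end_apply] using this
  rw [h]
  have hst : ∀ (r : k[X]) (y : H), y ∈ primAlg k H → aeval (T k H) r y ∈ primAlg k H := by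
    intro r
    induction r using Polynomial.induction_on' with
    | add r r' hr hr' =>
      intro y hy; simpa only [map_add, LinearMap.add_apply] using add_mem (hr y hy) (hr' y hy)
    | monomial n c =>
      intro y hy
      simp only [aeval_monomial, Module.End.mul_apply, Module.algebraMap_end_apply]
      refine Subalgebra.smul_mem _ ?_ c
      induction n generalizing y with
      | zero => exact hy
      | succ n ih => rw [pow_succ, Module.End.mul_apply]; exact ih _ (T_mem hy)
  exact hst q _ hx

theorem pol_and_mem : ∀ (n : ℕ) (x : H), x ∈ F k H n →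
    (∃ s : Multiset ℕ, (∀ m ∈ s, 1 ≤ m) ∧ aeval (T k H) (pol k s) x = 0) ∧
      x ∈ primAlg k H := by
  intro n
  induction n with
  | zero =>
    intro x hx
    rw [(Submodule.mem_bot k).1 hx]
    exact ⟨⟨0, by simp, map_zero _⟩, zero_mem _⟩
  | succ n ih =>
    intro x hx
    obtain ⟨z, hz⟩ := dlt_mem_F hx
    have hdec : (∃ r : Multiset ℕ, (∀ m ∈ r, 2 ≤ m) ∧
          aeval (TensorProduct.map (T k H) (T k H)) (pol k r) (dlt k H x) = 0) ∧
        LinearMap.mul' k H (dlt k H x) ∈ primAlg k H := by
      rw [← hz]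
      clear hz
      induction z with
      | zero => exact ⟨⟨0, by simp, by simp⟩, by simp⟩
      | tmul a b =>
        obtain ⟨⟨s, hs, ha⟩, haU⟩ := ih a.1 a.2
        obtain ⟨⟨t, ht, hb⟩, hbU⟩ := ih b.1 b.2
        refine ⟨?_, mul_mem haU hbU⟩
        have hl : ∀ (p : k[X]) (a b : H), aeval ((T k H).rTensor H) p (a ⊗ₜ[k] b) =
            aeval (T k H) p a ⊗ₜ[k] b := fun p a b =>
          LinearMap.congr_fun (aeval_algHom_apply (Module.End.rTensorAlgHom k H H) (T k H) p) _
        have hr : ∀ (p : k[X]) (a b : H), aeval ((T k H).lTensor H) p (a ⊗ₜ[k] b) =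
            a ⊗ₜ[k] aeval (T k H) p b := fun p a b =>
          LinearMap.congr_fun (aeval_algHom_apply (Module.End.lTensorAlgHom k H H) (T k H) p) _
        obtain ⟨r, hr2, hr0⟩ := exists_pol_mul ((T k H).rTensor H) ((T k H).lTensor H)
          (by simp only [Module.End.mul_eq_comp, LinearMap.rTensor_comp_lTensor,
            LinearMap.lTensor_comp_rTensor])
          s t hs ht (a.1 ⊗ₜ[k] b.1) (by rw [hl, ha, zero_tmul]) (by rw [hr, hb, tmul_zero])
        rw [Module.End.mul_eq_comp, LinearMap.rTensor_comp_lTensor] at hr0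
        exact ⟨r, hr2, hr0⟩
      | add a b ha hb =>
        obtain ⟨⟨r, hr2, hr0⟩, haU⟩ := ha
        obtain ⟨⟨r', hr2', hr0'⟩, hbU⟩ := hb
        refine ⟨⟨r + r', fun m hm => (Multiset.mem_add.1 hm).elim (hr2 m) (hr2' m), ?_⟩, ?_⟩
        · simp only [pol_add, map_add]
          rw [aeval_mem_ker _ _ _ hr0', add_zero, mul_comm, aeval_mem_ker _ _ _ hr0]
        · simpa only [map_add] using add_mem haU hbU
    obtain ⟨⟨r, hr, hr0⟩, hmU⟩ := hdec
    have hprim : aeval (T k H) (pol k r) x ∈ SGA3y.primLie k H := by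
      rw [mem_primLie, dlt_aeval, hr0]
    refine ⟨⟨r + {1}, ?_, ?_⟩, ?_⟩
    · intro m hm
      rcases Multiset.mem_add.1 hm with h | h
      · have := hr m h; omega
      · exact (Multiset.mem_singleton.1 h).ge
    · have hT2 : T k H (aeval (T k H) (pol k r) x) = (2 : k) • aeval (T k H) (pol k r) x := by
        rw [T_eq, mem_primLie.1 hprim, map_zero, add_zero]
      rw [pol_add, mul_comm, map_mul, Module.End.mul_apply]
      simp [pol, Module.algebraMap_end_apply] at hT2 ⊢
      exact sub_eq_zero.2 hT2
    · have hsub : aeval (T k H) (pol k r) x - (pol k r).eval 2 • x ∈ primAlg k H :=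
        aeval_sub_mem (by rw [T_eq, add_sub_cancel_left]; exact hmU)
      have h1 : (pol k r).eval 2 • x ∈ primAlg k H := by
        have := sub_mem (show aeval (T k H) (pol k r) x ∈ primAlg k H from
          Algebra.subset_adjoin hprim) hsub
        rwa [sub_sub_cancel] at this
      have h2 := Subalgebra.smul_mem _ h1 ((pol k r).eval 2)⁻¹
      rwa [inv_smul_smul₀ (eval_pol_ne_zero hr)] at h2

theorem primAlg_eq_top (hconn : SGA3y.IsConnectedCoalg k H) : primAlg k H = ⊤ := by
  refine Algebra.eq_top_iff.2 fun x => ?_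
  let y : H := x - Coalgebra.counit (R := k) x • 1
  obtain ⟨n, hn⟩ := exists_mem_F hconn (x := y) (by simp [y])
  have := add_mem (pol_and_mem n y hn).2
    (Subalgebra.smul_mem _ (one_mem (primAlg k H)) (Coalgebra.counit (R := k) x))
  simpa [y] using this

end Groth.L15.MM
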