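import Groth.Agent.L15.MM.Gen
import Groth.Agent.L08.PBW
import Mathlib.LinearAlgebra.Basis.VectorSpace
import Mathlib.SetTheory.Cardinal.Order

/-!
Milnor-Moore: ordered monomials in a basis of the primitive elements are linearly independent.
-/

set_option autoImplicit false

noncomputable section

universe u v w

open TensorProduct Groth.L08

attribute [local instance] LieRing.ofAssociativeRing

namespace Groth.L15.MM

/-- All ways of splitting a list into two complementary sublists. -/
def splits {α : Type*} : List α → List (List α × List α)
  | [] => [([], [])]
  | x :: l => (splits l).map (fun p => (x :: p.1, p.2)) ++ (splits l).map fun p => (p.1, x :: p.2)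

theorem perm_of_mem_splits {α : Type*} : ∀ {l : List α} {p : List α × List α}, p ∈ splits l →
    (p.1 ++ p.2).Perm l ∧ p.2.Sublist l
  | [], p, h => by
    rw [splits, List.mem_singleton] at h
    subst h
    simp
  | x :: l, p, h => by
    rw [splits, List.mem_append, List.mem_map, List.mem_map] at h
    rcases h with ⟨q, hq, rfl⟩ | ⟨q, hq, rfl⟩
    · obtain ⟨h1, h2⟩ := perm_of_mem_splits hq
      exact ⟨h1.cons x, h2.cons x⟩
    · obtain ⟨h1, h2⟩ := perm_of_mem_splits hq
      exact ⟨List.perm_middle.trans (h1.cons x), h2.cons₂ x⟩

theorem nil_mem_splits {α : Type*} : ∀ l : List α, ([], l) ∈ splits l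
  | [] => by simp [splits]
  | x :: l => List.mem_append_right _ (List.mem_map.2 ⟨_, nil_mem_splits l, rfl⟩)

theorem singleton_mem_splits {α : Type*} [DecidableEq α] {i : α} :
    ∀ {l : List α}, i ∈ l → ([i], l.erase i) ∈ splits l
  | [], h => absurd h (by simp)
  | x :: l, h => by
    rcases eq_or_ne x i with rfl | hxi
    · rw [List.erase_cons_head]
      exact List.mem_append_left _ (List.mem_map.2 ⟨_, nil_mem_splits l, rfl⟩)
    · rw [List.erase_cons_tail (by simpa using hxi)]
      exact List.mem_append_right _ (List.mem_map.2 ⟨_, singleton_mem_splits
        ((List.mem_cons.1 h).resolve_left (Ne.symm hxi)), rfl⟩)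

variable {k : Type u} [Field k] {H : Type v} [Ring H] [Bialgebra k H] {ι : Type w}

theorem comul_prod (e : ι → H) (he : ∀ i, e i ∈ SGA3y.primLie k H) : ∀ l : List ι,
    Coalgebra.comul (R := k) (l.map e).prod =
      ((splits l).map fun p => (p.1.map e).prod ⊗ₜ[k] (p.2.map e).prod).sum
  | [] => by simp [splits, Algebra.TensorProduct.one_def]
  | x :: l => by
    rw [List.map_cons, List.prod_cons, Bialgebra.comul_mul, comul_prod e he l,
      (he x : Coalgebra.comul (R := k) (e x) = _), add_mul, splits, List.map_append,
      List.sum_append, ← List.sum_map_mul_left, ← List.sum_map_mul_left]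
    simp only [List.map_map, Function.comp_def, Algebra.TensorProduct.tmul_mul_tmul, one_mul,
      List.map_cons, List.prod_cons]

variable (k H) in
/-- `(θ ⊗ 1) ∘ Δ`. -/
def D (θ : H →ₗ[k] k) : H →ₗ[k] H :=
  (TensorProduct.lid k H).toLinearMap ∘ₗ θ.rTensor H ∘ₗ Coalgebra.comul (R := k)

theorem D_prod (e : ι → H) (he : ∀ i, e i ∈ SGA3y.primLie k H) (θ : H →ₗ[k] k) (l : List ι) :
    D k H θ (l.map e).prod = ((splits l).map fun p => θ (p.1.map e).prod • (p.2.map e).prod).sum := by
  rw [D, LinearMap.comp_apply, LinearMap.comp_apply, comul_prod e he, map_list_sum, map_list_sum,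
    List.map_map, List.map_map]
  simp [Function.comp_def]

theorem counit_prod (e : ι → H) (he : ∀ i, e i ∈ SGA3y.primLie k H) {l : List ι} (hl : l ≠ []) :
    Coalgebra.counit (R := k) (l.map e).prod = 0 := by
  obtain ⟨x, m, rfl⟩ := List.exists_cons_of_ne_nil hl
  rw [List.map_cons, List.prod_cons, Bialgebra.counit_mul, counit_eq_zero_of_prim (he x), zero_mul]

theorem listSum_apply {α : Type*} {R : Type*} [AddCommMonoid R] (a : α) : ∀ l : List (α →₀ R),
    l.sum a = (l.map fun f => f a).sum
  | [] => rfl
  | f :: l => by rw [List.sum_cons, Finsupp.add_apply, listSum_apply a l]; rfl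

variable [CharZero k] [LinearOrder ι]

theorem linearIndependent_mon (b : Module.Basis ι k (SGA3y.primLie k H)) :
    LinearIndependent k fun M : PBW.SL ι => (M.1.map fun i => (b i : H)).prod := by
  classical
  let e : ι → H := fun i => (b i : H)
  have he : ∀ i, e i ∈ SGA3y.primLie k H := fun i => (b i).2
  -- coordinate functionals vanishing at `1`
  have hψ : ∀ i, ∃ ψ : H →ₗ[k] k, ψ 1 = 0 ∧ ∀ j, ψ (e j) = if i = j then 1 else 0 := by
    intro i
    obtain ⟨g, hg⟩ := LinearMap.exists_extend (p := (SGA3y.primLie k H).toSubmodule) (b.coord i)
    refine ⟨g ∘ₗ (LinearMap.id - (Coalgebra.counit (R := k) (A := H)).smulRight (1 : H)),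
      by simp, fun j => ?_⟩
    have h0 := counit_eq_zero_of_prim (he j)
    have h1 : g (e j) = b.coord i (b j) := LinearMap.congr_fun hg (b j)
    simp only [LinearMap.comp_apply, LinearMap.sub_apply, LinearMap.id_apply,
      LinearMap.smulRight_apply, h0, zero_smul, sub_zero, h1, Module.Basis.coord_apply,
      Module.Basis.repr_self, Finsupp.single_apply]
    exact if_congr eq_comm rfl rfl
  have main : ∀ n : ℕ, ∀ c : PBW.SL ι →₀ k, (∀ M ∈ c.support, M.1.length ≤ n) →
      (c.sum fun M a => a • (M.1.map e).prod) = 0 → c = 0 := by
    intro n
    induction n with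
    | zero =>
      intro c hc hsum
      have hc1 : c = Finsupp.single PBW.emp (c PBW.emp) := Finsupp.support_subset_singleton.1
        fun M hM => Finset.mem_singleton.2 (Subtype.ext (List.length_eq_zero_iff.1 (Nat.le_zero.1 (hc M hM))))
      rw [hc1, Finsupp.sum_single_index (by simp)] at hsum
      have : c PBW.emp = 0 := by
        have := congrArg (Coalgebra.counit (R := k)) hsum
        simpa [PBW.emp] using this
      rw [hc1, this, Finsupp.single_zero]
    | succ n ih =>
      intro c hc hsum
      have htop : ∀ M₀ : PBW.SL ι, M₀.1.length = n + 1 → c M₀ = 0 := by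
        intro M₀ hM₀
        rcases n with _ | n
        · -- length one: evaluate a coordinate functional
          obtain ⟨i, hi⟩ := List.length_eq_one_iff.1 hM₀
          obtain ⟨ψ, hψ1, hψe⟩ := hψ i
          have := congrArg ψ hsum
          rw [map_finsuppSum, map_zero, Finsupp.sum, Finset.sum_eq_single M₀] at this
          · simpa [hi, hψe, e] using this
          · intro M hM hne
            rcases Nat.le_one_iff_eq_zero_or_eq_one.1 (hc M hM) with h | h
            · simp [List.length_eq_zero_iff.1 h, hψ1]
            · obtain ⟨j, hj⟩ := List.length_eq_one_iff.1 h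
              have hij : i ≠ j := fun h => hne (Subtype.ext (by rw [hi, hj, h]))
              simp [hj, hψe, hij]
          · intro h; simp [Finsupp.notMem_support_iff.1 h]
        · -- apply `(ψ ⊗ 1) ∘ Δ` and look at the coefficient of a monomial one shorter
          obtain ⟨i, l, hil⟩ := List.exists_cons_of_length_eq_add_one hM₀
          let N : PBW.SL ι := PBW.tl i l (hil ▸ M₀.2)
          obtain ⟨ψ, hψ1, hψe⟩ := hψ i
          let Φ : PBW.SL ι → (PBW.SL ι →₀ k) := fun M =>
            ((splits M.1).attach.map fun p => Finsupp.single
              (⟨p.1.2, List.Pairwise.sortedLE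
                (M.2.pairwise.sublist (perm_of_mem_splits p.2).2)⟩ : PBW.SL ι)
              (ψ (p.1.1.map e).prod)).sum
          have hΦval : ∀ M, Finsupp.linearCombination k (fun M : PBW.SL ι => (M.1.map e).prod) (Φ M) =
              D k H ψ (M.1.map e).prod := by
            intro M
            rw [D_prod e he, map_list_sum, List.map_map]
            conv_rhs => rw [← List.attach_map_subtype_val (splits M.1), List.map_map]
            simp [Function.comp_def]
          let d : PBW.SL ι →₀ k := c.sum fun M a => a • Φ M
          have hdsum : (d.sum fun M a => a • (M.1.map e).prod) = 0 := by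
            rw [← Finsupp.linearCombination_apply]
            simp only [d, map_finsuppSum, map_smul, hΦval]
            have := congrArg (D k H ψ) hsum
            simpa [map_finsuppSum] using this
          have hlen : ∀ M ∈ c.support, ∀ p ∈ splits M.1, ψ (p.1.map e).prod ≠ 0 →
              p.1 ≠ [] ∧ p.2.length ≤ n + 1 := by
            intro M hM p hp hne
            have h1 : p.1 ≠ [] := fun h => hne (by simp [h, hψ1])
            refine ⟨h1, ?_⟩
            have h2 := (perm_of_mem_splits hp).1.length_eq
            have h3 := hc M hM
            have h4 := List.length_pos_iff.2 h1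
            rw [List.length_append] at h2
            omega
          have hd : ∀ M ∈ d.support, M.1.length ≤ n + 1 := by
            intro Q hQ
            by_contra hQn
            refine Finsupp.mem_support_iff.1 hQ ?_
            simp only [d, Finsupp.sum_apply, Finsupp.smul_apply]
            refine Finset.sum_eq_zero fun M hM => ?_
            simp only [Φ]
            rw [listSum_apply, List.map_map]
            refine smul_eq_zero.2 (Or.inr (List.sum_eq_zero fun z hz => ?_))
            obtain ⟨p, -, rfl⟩ := List.mem_map.1 hz
            simp only [Function.comp_apply, Finsupp.single_apply]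
            split_ifs with hp
            · by_contra hne
              exact hQn (hp ▸ (hlen M hM p.1 p.2 hne).2)
            · rfl
          have hd0 := ih d hd hdsum
          have hN : N.1 = l := rfl
          have hlN : l.length = n + 1 := by
            have := hM₀; rw [hil, List.length_cons] at this; omega
          -- the coefficient at `N`
          have hcoef : ∀ M ∈ c.support, M ≠ M₀ → Φ M N = 0 := by
            intro M hM hne
            simp only [Φ]
            rw [listSum_apply, List.map_map]
            refine List.sum_eq_zero fun z hz => ?_
            obtain ⟨p, -, rfl⟩ := List.mem_map.1 hz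
            simp only [Function.comp_apply, Finsupp.single_apply]
            split_ifs with hp
            · by_contra hne0
              have hp2 : p.1.2 = l := congrArg Subtype.val hp
              obtain ⟨h1, -⟩ := hlen M hM p.1 p.2 hne0
              have hperm := (perm_of_mem_splits p.2).1
              have h4 := hperm.length_eq
              rw [List.length_append, hp2, hlN] at h4
              have h5 := hc M hM
              have h6 := List.length_pos_iff.2 h1
              obtain ⟨j, hj⟩ := List.length_eq_one_iff.1 (show p.1.1.length = 1 by omega)
              have hij : i = j := by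
                by_contra h
                exact hne0 (by simp [hj, hψe, h])
              refine hne (Subtype.ext (List.Perm.eq_of_pairwise' M.2.pairwise M₀.2.pairwise ?_))
              rw [hil, hij]
              rw [hj, hp2] at hperm
              exact hperm.symm
            · rfl
          have hpos : ∃ m : ℕ, 0 < m ∧ Φ M₀ N = m := by
            simp only [Φ]
            rw [listSum_apply, List.map_map]
            refine ⟨(splits M₀.1).attach.countP fun p => decide (p.1.2 = l ∧ p.1.1 = [i]), ?_, ?_⟩
            · refine List.countP_pos_iff.2 ⟨⟨([i], M₀.1.erase i),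
                singleton_mem_splits (by rw [hil]; exact List.mem_cons_self ..)⟩,
                List.mem_attach _ _, ?_⟩
              simp [hil]
            · induction (splits M₀.1).attach with
              | nil => simp
              | cons p ps ihp =>
                rw [List.map_cons, List.sum_cons, ihp, List.countP_cons, Nat.cast_add, add_comm]
                congr 1
                simp only [Function.comp_apply, Finsupp.single_apply]
                by_cases hp2 : p.1.2 = l
                · have hperm := (perm_of_mem_splits p.2).1
                  have h4 := hperm.length_eq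
                  rw [List.length_append, hp2, hlN, hM₀] at h4
                  obtain ⟨j, hj⟩ := List.length_eq_one_iff.1 (show p.1.1.length = 1 by omega)
                  rw [hj, hp2, hil] at hperm
                  have hji : j = i := by
                    have := (List.perm_append_right_iff (l₁ := [j]) (l₂ := [i]) l).1 hperm
                    simpa using this
                  rw [if_pos (Subtype.ext hp2), hj, hji]
                  simp [hψe, hp2, hj, hji]
                · rw [if_neg (fun h => hp2 (congrArg Subtype.val h))]
                  simp [hp2]
          obtain ⟨m, hm, hmv⟩ := hpos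
          have h := DFunLike.congr_fun hd0 N
          simp only [d, Finsupp.sum_apply, Finsupp.smul_apply, Finsupp.coe_zero, Pi.zero_apply] at h
          rw [Finsupp.sum, Finset.sum_eq_single M₀ (fun M hM hne => by rw [hcoef M hM hne, smul_zero])
            (fun h => by rw [Finsupp.notMem_support_iff.1 h, zero_smul]), hmv, smul_eq_mul,
            mul_eq_zero] at h
          exact h.resolve_right (Nat.cast_ne_zero.2 hm.ne')
      refine ih c (fun M hM => ?_) hsum
      rcases Nat.lt_or_eq_of_le (hc M hM) with h | h
      · omega
      · exact absurd (htop M h) (Finsupp.mem_support_iff.1 hM)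
  rw [linearIndependent_iff]
  intro c hc
  exact main (c.support.sup fun M => M.1.length) c
    (fun M hM => Finset.le_sup (f := fun M : PBW.SL ι => M.1.length) hM)
    (by simpa [Finsupp.linearCombination_apply] using hc)

omit [LinearOrder ι] in
theorem lift_bijective [Coalgebra.IsCocomm k H] (hconn : SGA3y.IsConnectedCoalg k H) :
    Function.Bijective (UniversalEnvelopingAlgebra.lift k (SGA3y.primLie k H).incl) := by
  classical
  constructor
  · let b := Module.Basis.ofVectorSpace k (SGA3y.primLie k H)
    let inst := linearOrderOfSTO (α := Module.Basis.ofVectorSpaceIndex k (SGA3y.primLie k H))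
      WellOrderingRel
    have hli := @linearIndependent_mon k _ H _ _ _ _ inst b
    let B := @PBW.basis k _ _ _ _ _ inst b
    let L := (UniversalEnvelopingAlgebra.lift k (SGA3y.primLie k H).incl).toLinearMap
    refine (LinearMap.ker_eq_bot (f := L)).1 (LinearMap.ker_eq_bot'.2 fun x hx => ?_)
    have hB : ∀ M, L (B M) = (M.1.map fun i => (b i : H)).prod := fun M => by
      simp only [B, L, PBW.basis_apply, AlgHom.toLinearMap_apply, map_list_prod, List.map_map]
      congr 2
      funext i
      simp
    rw [← B.linearCombination_repr x, Finsupp.apply_linearCombination] at hx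
    have hz : Finsupp.linearCombination k (fun M => (M.1.map fun i => (b i : H)).prod)
        (B.repr x) = 0 :=
      (congrArg (fun f => Finsupp.linearCombination k f (B.repr x))
        (funext fun M => (hB M).symm)).trans hx
    exact B.repr.map_eq_zero_iff.1 (linearIndependent_iff.1 hli _ hz)
  · intro x
    have : primAlg k H ≤ (UniversalEnvelopingAlgebra.lift k (SGA3y.primLie k H).incl).range :=
      Algebra.adjoin_le fun p hp => ⟨UniversalEnvelopingAlgebra.ι k ⟨p, hp⟩, by simp⟩
    exact this (primAlg_eq_top hconn ▸ Algebra.mem_top)

end Groth.L15.MM
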