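import Groth.Agent.L08.Subcoalg
import Groth.Prelude.Def_SGA3y
import Mathlib.RingTheory.Bialgebra.TensorProduct
import Mathlib.RingTheory.Coalgebra.TensorProduct
import Mathlib.RingTheory.Nilpotent.Lemmas
import Mathlib.RingTheory.Noetherian.Nilpotent
import Mathlib.Algebra.Polynomial.AlgebraMap
import Mathlib.RingTheory.Ideal.Maps
import Mathlib.Tactic.LinearCombination

/-!
A connected cocommutative bialgebra in characteristic zero is generated by its primitive elements:
the operator `T = μ ∘ Δ` satisfies `T x = 2 x + (decomposable)` and is annihilated, on each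
element, by a product of factors `T - 2 ^ m`.
-/

set_option autoImplicit false

noncomputable section

universe u v

open TensorProduct WithConv Groth.L08

namespace Groth.L15.MM

variable {k : Type u} [Field k] {H : Type v} [Ring H] [Bialgebra k H]

local notation "Δ" => Coalgebra.comul (R := k) (A := H)
local notation "cu" => Coalgebra.counit (R := k) (A := H)

variable (k H) in
/-- The reduced comultiplication. -/
def dlt : H →ₗ[k] H ⊗[k] H :=
  Δ - (TensorProduct.mk k H H).flip 1 - TensorProduct.mk k H H 1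

theorem dlt_apply (x : H) : dlt k H x = Δ x - x ⊗ₜ[k] 1 - 1 ⊗ₜ[k] x := rfl

theorem mem_primLie {x : H} : x ∈ SGA3y.primLie k H ↔ dlt k H x = 0 := by
  rw [dlt_apply, sub_sub, sub_eq_zero]
  rfl

theorem counit_eq_zero_of_prim {x : H} (hx : x ∈ SGA3y.primLie k H) : cu x = 0 := by
  have h := congrArg ((cu).rTensor H) (mem_primLie.1 hx)
  simp only [dlt_apply, map_sub, map_zero, Coalgebra.rTensor_counit_comul,
    LinearMap.rTensor_tmul, Bialgebra.counit_one] at h
  have h' := congrArg (fun z => cu (TensorProduct.lid k H z)) h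
  simp only [map_sub, map_zero, TensorProduct.lid_tmul, map_smul, Bialgebra.counit_one,
    smul_eq_mul, one_mul, mul_one] at h'
  linear_combination -h'

theorem fAct_one (φ : H →ₗ[k] k) : fAct H φ (1 : H) = φ 1 • 1 := by
  rw [fAct_apply]
  change TensorProduct.rid k H (φ.lTensor H (Δ 1)) = _
  rw [Bialgebra.comul_one, Algebra.TensorProduct.one_def]
  simp

theorem rid_lTensor_dlt (φ : H →ₗ[k] k) (x : H) :
    TensorProduct.rid k H (φ.lTensor H (dlt k H x)) = fAct H φ x - φ 1 • x - φ x • 1 := by
  simp only [dlt_apply, map_sub, LinearMap.lTensor_tmul, TensorProduct.rid_tmul]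
  rfl

theorem lid_rTensor (f : H →ₗ[k] k) (z : H ⊗[k] H) :
    TensorProduct.lid k H (f.rTensor H z) =
      TensorProduct.rid k H (f.lTensor H (TensorProduct.comm k H H z)) := by
  induction z with
  | zero => simp
  | add a b ha hb => simp only [map_add, ha, hb]
  | tmul a b => simp

section Fil

variable (k H) in
/-- The coradical filtration of the augmentation ideal. -/
def F : ℕ → Submodule k H
  | 0 => ⊥
  | n + 1 => LinearMap.ker (cu) ⊓
      ⨅ φ : {φ : H →ₗ[k] k // φ 1 = 0}, (F n).comap (fAct H φ.1 - φ.1.smulRight (1 : H))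

theorem counit_of_mem_F {n : ℕ} {x : H} (hx : x ∈ F k H n) : cu x = 0 := by
  cases n with
  | zero => rw [(Submodule.mem_bot k).1 hx, map_zero]
  | succ n => exact hx.1

theorem mem_F_succ {n : ℕ} {x : H} :
    x ∈ F k H (n + 1) ↔
      cu x = 0 ∧ ∀ φ : H →ₗ[k] k, φ 1 = 0 → fAct H φ x - φ x • 1 ∈ F k H n := by
  simp only [F, Submodule.mem_inf, LinearMap.mem_ker, Submodule.mem_iInf, Subtype.forall,
    Submodule.mem_comap, LinearMap.sub_apply, LinearMap.smulRight_apply]

variable [Coalgebra.IsCocomm k H]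

theorem comm_dlt (x : H) : TensorProduct.comm k H H (dlt k H x) = dlt k H x := by
  simp only [dlt_apply, map_sub, Coalgebra.comm_comul, TensorProduct.comm_tmul]
  abel

theorem dlt_mem_F {n : ℕ} {x : H} (hx : x ∈ F k H (n + 1)) :
    dlt k H x ∈ LinearMap.range (TensorProduct.map (F k H n).subtype (F k H n).subtype) := by
  obtain ⟨hε, hF⟩ := mem_F_succ.1 hx
  have key : ∀ φ : H →ₗ[k] k, TensorProduct.rid k H (φ.lTensor H (dlt k H x)) ∈ F k H n := by
    intro φ
    have h := hF (φ - φ 1 • cu) (by simp)
    have e : fAct H (φ - φ 1 • cu) x = fAct H φ x - φ 1 • x := by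
      change fActL (V := H) (φ - φ 1 • cu) x = _
      rw [map_sub, map_smul]
      change fAct H φ x - φ 1 • fAct H (cu) x = _
      rw [fAct_counit]; rfl
    rw [e] at h
    rw [rid_lTensor_dlt]
    simpa [hε] using h
  refine (mem_range_map_subtype_iff _ _ _).2
    ⟨(mem_range_rTensor_subtype_iff _ _).2 key, (mem_range_lTensor_subtype_iff _ _).2 fun f => ?_⟩
  rw [lid_rTensor, comm_dlt]
  exact key f

theorem fAct_comm (φ ψ : H →ₗ[k] k) :
    fAct H φ ∘ₗ fAct H ψ = fAct H ψ ∘ₗ fAct H φ := by
  rw [show φ = (toConv φ).ofConv from rfl, show ψ = (toConv ψ).ofConv from rfl, ← fAct_mul,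
    ← fAct_mul, mul_comm]

/-- An element killed by all products of `n` reduced operators lies in the `n`-th step. -/
theorem mem_F_of_kill : ∀ (n : ℕ) (x : H), cu x = 0 →
    (∀ φ : Fin n → (H →ₗ[k] k), (∀ i, φ i 1 = 0) →
      (List.ofFn fun i => fAct H (φ i)).prod x = 0) → x ∈ F k H n := by
  intro n
  induction n with
  | zero =>
    intro x _ h
    have := h Fin.elim0 fun i => i.elim0
    simpa [F] using this
  | succ n ih =>
    intro x hε h
    refine mem_F_succ.2 ⟨hε, fun φ hφ => ?_⟩
    have hεφ : cu (fAct H φ x) = φ x := by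
      rw [fAct_apply]
      change cu (TensorProduct.rid k H (φ.lTensor H (Δ x))) = φ x
      have : ∀ z : H ⊗[k] H, cu (TensorProduct.rid k H (φ.lTensor H z)) =
          φ (TensorProduct.lid k H ((cu).rTensor H z)) := by
        intro z
        induction z with
        | zero => simp
        | add a b ha hb => simp only [map_add, ha, hb]
        | tmul a b => simp [mul_comm]
      rw [this, Coalgebra.rTensor_counit_comul, TensorProduct.lid_tmul, one_smul]
    refine ih _ (by simp [hεφ]) fun ψ hψ => ?_
    rw [map_sub, map_smul]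
    have h1 := h (Fin.snoc ψ φ) (fun i => Fin.lastCases (by simpa using hφ) (fun j => by simpa using hψ j) i)
    rw [List.ofFn_succ', List.concat_eq_append, List.prod_append] at h1
    simp only [Fin.snoc_castSucc, Fin.snoc_last, List.prod_singleton, Module.End.mul_apply] at h1
    rw [h1, zero_sub, neg_eq_zero]
    cases n with
    | zero =>
      simp only [List.ofFn_zero, List.prod_nil, Module.End.one_apply] at h1 ⊢
      rw [← hεφ, h1, map_zero, zero_smul]
    | succ m =>
      rw [List.ofFn_succ', List.concat_eq_append, List.prod_append, List.prod_singleton,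
        Module.End.mul_apply, fAct_one, hψ, zero_smul, map_zero, smul_zero]

theorem one_ne_zero_H (K : Type u) [Field K] {A : Type v} [Ring A] [Bialgebra K A] : (1 : A) ≠ 0 :=
  fun h => one_ne_zero (α := K) (by simpa using congrArg (Coalgebra.counit (R := K) (A := A)) h)

/-- A finite-dimensional space of commuting nilpotent endomorphisms has nilpotent products. -/
theorem exists_prod_eq_zero {C : Type v} [AddCommGroup C] [Module k C] [Module.Finite k C]
    (P : Submodule k (Module.End k C)) (hc : ∀ f ∈ P, ∀ g ∈ P, f * g = g * f)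
    (hn : ∀ f ∈ P, IsNilpotent f) :
    ∃ n : ℕ, ∀ f : Fin n → Module.End k C, (∀ i, f i ∈ P) → (List.ofFn f).prod = 0 := by
  classical
  let S : Subalgebra k (Module.End k C) := Algebra.adjoin k (P : Set (Module.End k C))
  letI : CommRing S := Algebra.adjoinCommRingOfComm k hc
  obtain ⟨s, hs⟩ := IsNoetherian.noetherian P
  let ι : {x // x ∈ s} → S := fun x =>
    ⟨x.1, Algebra.subset_adjoin (hs.le (Submodule.subset_span x.2))⟩
  let I : Ideal S := Ideal.span (Set.range ι)
  have hI : IsNilpotent I := by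
    refine (Ideal.FG.isNilpotent_iff_le_nilradical (Submodule.fg_span (Set.finite_range ι))).2 ?_
    refine Ideal.span_le.2 ?_
    rintro _ ⟨x, rfl⟩
    obtain ⟨N, hN⟩ := hn x.1 (hs.le (Submodule.subset_span x.2))
    exact ⟨N, Subtype.ext ((SubmonoidClass.coe_pow _ _).trans hN)⟩
  obtain ⟨n, hn'⟩ := hI
  refine ⟨n, fun f hf => ?_⟩
  have hle : P ≤ (I.restrictScalars k).map S.val.toLinearMap := hs.ge.trans
    (Submodule.span_le.2 fun x hx => ⟨ι ⟨x, hx⟩, Ideal.subset_span ⟨_, rfl⟩, rfl⟩)
  have key : ∀ (m : ℕ) (f : Fin m → Module.End k C), (∀ i, f i ∈ P) →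
      ∃ z ∈ I ^ m, (z : Module.End k C) = (List.ofFn f).prod := by
    intro m
    induction m with
    | zero => intro f _; exact ⟨1, by simp, rfl⟩
    | succ m ih =>
      intro f hf
      obtain ⟨z, hz, ez⟩ := ih (fun i => f i.succ) fun i => hf _
      obtain ⟨w, hw, ew⟩ := hle (hf 0)
      refine ⟨w * z, by rw [pow_succ']; exact Ideal.mul_mem_mul hw hz, ?_⟩
      rw [List.ofFn_succ, List.prod_cons, MulMemClass.coe_mul, ez]
      exact congrArg (· * _) ew
  obtain ⟨z, hz, ez⟩ := key n f hf
  rw [hn'] at hz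
  rw [← ez, (show z = 0 from hz)]
  rfl

theorem isNilpotent_restrict_fAct (hconn : SGA3y.IsConnectedCoalg k H) (C : Submodule k H)
    [Module.Finite k C] (φ : H →ₗ[k] k) (hφ : φ 1 = 0)
    (hst : ∀ ψ : H →ₗ[k] k, ∀ c ∈ C, fAct H ψ c ∈ C) :
    IsNilpotent ((fAct H φ).restrict (hst φ)) := by
  let L : Module.End k C := (fAct H φ).restrict (hst φ)
  obtain ⟨N₀, hN₀⟩ := Filter.eventually_atTop.1 (LinearMap.eventually_isCompl_ker_pow_range_pow L)
  have hN : IsCompl (LinearMap.ker (L ^ (N₀ + 1))) (LinearMap.range (L ^ (N₀ + 1))) :=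
    hN₀ _ (by omega)
  let R : Submodule k H := (LinearMap.range (L ^ (N₀ + 1))).map C.subtype
  have hRst : ∀ ψ : H →ₗ[k] k, ∀ r ∈ R, fAct H ψ r ∈ R := by
    rintro ψ r ⟨s, ⟨c, rfl⟩, rfl⟩
    have hc : Commute L ((fAct H ψ).restrict (hst ψ)) :=
      LinearMap.ext fun c => Subtype.ext (LinearMap.congr_fun (fAct_comm φ ψ) c.1)
    exact ⟨_, ⟨(fAct H ψ).restrict (hst ψ) c, LinearMap.congr_fun (hc.pow_left (N₀ + 1)).eq c⟩, rfl⟩
  refine ⟨N₀ + 1, LinearMap.range_eq_bot.1 ?_⟩
  by_contra hne
  have hR : R ≠ ⊥ := fun h => hne (Submodule.map_injective_of_injective C.injective_subtype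
    (h.trans (Submodule.map_bot _).symm))
  obtain ⟨s, hs, hs1⟩ := hconn R (fun r hr =>
    (mem_range_map_subtype_iff _ _ _).2
      ⟨(mem_range_rTensor_subtype_iff _ _).2 fun ψ => hRst ψ r hr,
        (mem_range_lTensor_subtype_iff _ _).2 fun f => by
          rw [lid_rTensor, Coalgebra.comm_comul]; exact hRst f r hr⟩) hR
  have h1 : L s = 0 := Subtype.ext (by
    change fAct H φ (C.subtype s) = 0
    rw [hs1, fAct_one, hφ, zero_smul])
  have hker : s ∈ LinearMap.ker (L ^ (N₀ + 1)) := by
    rw [LinearMap.mem_ker, pow_succ, Module.End.mul_apply, h1, map_zero]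
  have h0 : s = 0 := Submodule.disjoint_def.1 hN.disjoint s hker hs
  exact one_ne_zero_H k (by rw [← hs1, h0, map_zero])

theorem exists_mem_F (hconn : SGA3y.IsConnectedCoalg k H) {x : H} (hx : cu x = 0) :
    ∃ n, x ∈ F k H n := by
  classical
  obtain ⟨C, hC, hxC, hsub⟩ := exists_finite_subcoalg (k := k) ({x} : Finset H)
  have hxC' : x ∈ C := hxC (by simp)
  have hst : ∀ φ : H →ₗ[k] k, ∀ c ∈ C, fAct H φ c ∈ C :=
    isSubcomod_iff.1 (isSubcoalg_iff.1 hsub).1
  let L : (H →ₗ[k] k) →ₗ[k] Module.End k C :=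
    { toFun := fun φ => (fAct H φ).restrict (hst φ)
      map_add' := fun φ ψ => by
        ext c
        exact LinearMap.congr_fun (map_add (fActL (k := k) (A := H) (V := H)) φ ψ) c.1
      map_smul' := fun a φ => by
        ext c
        exact LinearMap.congr_fun (map_smul (fActL (k := k) (A := H) (V := H)) a φ) c.1 }
  obtain ⟨n, hn⟩ := exists_prod_eq_zero ((LinearMap.ker (LinearMap.applyₗ (1 : H))).map L)
    (by
      rintro _ ⟨φ, -, rfl⟩ _ ⟨ψ, -, rfl⟩
      exact LinearMap.ext fun c => Subtype.ext (LinearMap.congr_fun (fAct_comm φ ψ) c.1))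
    (by
      rintro _ ⟨φ, hφ, rfl⟩
      exact isNilpotent_restrict_fAct hconn C φ hφ hst)
  refine ⟨n, mem_F_of_kill n x hx fun φ hφ => ?_⟩
  have e : ∀ (m : ℕ) (φ : Fin m → (H →ₗ[k] k)) (c : C),
      ((List.ofFn fun i => L (φ i)).prod c : H) = (List.ofFn fun i => fAct H (φ i)).prod c.1 := by
    intro m
    induction m with
    | zero => intro φ c; rfl
    | succ m ih =>
      intro φ c
      simp only [List.ofFn_succ, List.prod_cons, Module.End.mul_apply]
      rw [← ih]
      rfl
  rw [← e n φ ⟨x, hxC'⟩, hn (fun i => L (φ i)) fun i => ⟨φ i, hφ i, rfl⟩]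
  rfl

end Fil

section T

variable (k H) in
/-- Comultiply then multiply. -/
def T : Module.End k H := LinearMap.mul' k H ∘ₗ Δ

theorem T_apply (x : H) : T k H x = LinearMap.mul' k H (Δ x) := rfl

theorem T_eq (x : H) : T k H x = (2 : k) • x + LinearMap.mul' k H (dlt k H x) := by
  simp only [T_apply, dlt_apply, map_sub, LinearMap.mul'_apply, mul_one, one_mul, two_smul]
  abel

theorem T_one : T k H 1 = 1 := by
  rw [T_apply, Bialgebra.comul_one, Algebra.TensorProduct.one_def, LinearMap.mul'_apply, one_mul]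

theorem counit_T (x : H) : cu (T k H x) = cu x := by
  have h : ∀ z : H ⊗[k] H, cu (LinearMap.mul' k H z) =
      TensorProduct.lid k k ((cu).lTensor k ((cu).rTensor H z)) := by
    intro z
    induction z with
    | zero => simp
    | add a b ha hb => simp only [map_add, ha, hb]
    | tmul a b => simp
  rw [T_apply, h, Coalgebra.rTensor_counit_comul]
  simp

variable [Coalgebra.IsCocomm k H]

theorem comul_T (x : H) : Δ (T k H x) = TensorProduct.map (T k H) (T k H) (Δ x) := by
  have h1 : ∀ z : H ⊗[k] H, Δ (LinearMap.mul' k H z) =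
      TensorProduct.map (LinearMap.mul' k H) (LinearMap.mul' k H)
        (TensorProduct.tensorTensorTensorComm k H H H H (TensorProduct.map Δ Δ z)) := by
    intro z
    induction z with
    | zero => simp
    | add a b ha hb => simp only [map_add, ha, hb]
    | tmul a b =>
      rw [LinearMap.mul'_apply, Bialgebra.comul_mul, TensorProduct.map_tmul]
      induction Δ a with
      | zero => simp
      | add p q hp hq => simp only [add_mul, map_add, TensorProduct.add_tmul, hp, hq]
      | tmul p q =>
        induction Δ b with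
        | zero => simp
        | add r s hr hs => simp only [mul_add, map_add, TensorProduct.tmul_add, hr, hs]
        | tmul r s => simp
  rw [T_apply, h1]
  have h2 : TensorProduct.tensorTensorTensorComm k H H H H (TensorProduct.map Δ Δ (Δ x)) =
      TensorProduct.map Δ Δ (Δ x) := by
    have hc := LinearMap.congr_fun (Coalgebra.comulCoalgHom k H).map_comp_comul x
    simp only [LinearMap.comp_apply] at hc
    rw [TensorProduct.comul_def] at hc
    exact hc.symm
  rw [h2, TensorProduct.map_map]
  rfl

theorem dlt_T (x : H) : dlt k H (T k H x) = TensorProduct.map (T k H) (T k H) (dlt k H x) := by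
  simp only [dlt_apply, map_sub, TensorProduct.map_tmul, T_one, comul_T]

end T

end Groth.L15.MM
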